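import Groth.Agent.Lib.Helper3.ModLimW2
import Groth.Agent.Lib.Helper3.TowerSite2

/-!
# Detecting isomorphisms in the derived category of `O`-modules on a ringed site by maps out of the
modules `j_{U!} O_U`, `U` in a covering class
-/

set_option autoImplicit false
universe w u

open CategoryTheory Limits Opposite Abelian Pretriangulated

namespace Groth.Agent.Lib.Helper6.QcRlim

open Groth.Agent.Helper3 Groth.Agent.Helper3.ExtProd Groth.Agent.Helper3.ModLimW

variable {C : Type u} [SmallCategory C] {J : GrothendieckTopology C}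
  (O : Sheaf J CommRingCat.{u})

/-- test objects: the modules `j_{V!} O_V`, `V ∈ B` -/
noncomputable abbrev Zm (B : Set C) : B → ModSite.Mod O := fun V => ModSite.freeOn O V.1

lemma detectsEpi (B : Set C) (hB : TowerSite.Covers J B) : DetectsEpi (Zm O B) := by
  intro P Q φ h
  apply (ModLim.tAb O).epi_of_epi_map
  rw [← Sheaf.isLocallySurjective_iff_epi' AddCommGrpCat.{u} ((ModLim.tAb O).map φ)]
  constructor
  intro U s
  obtain ⟨ι, Y, f, hcov, hY⟩ := hB U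
  refine J.superset_covering ?_ hcov
  intro V g hg
  obtain ⟨i, a, rfl⟩ := (Sieve.mem_ofArrows_iff Y f g).1 hg
  let s' : Q.val.obj (op U) := s
  obtain ⟨x, hx⟩ := h ⟨Y i, hY i⟩ ((ModLim.sec O (Y i) Q).symm (Q.val.map (f i).op s'))
  have h1 := ModLim.sec_comp O (Y i) x φ
  rw [hx, Equiv.apply_symm_apply] at h1
  refine ⟨P.val.map a.op (ModLim.sec O (Y i) P x), ?_⟩
  have hn := PresheafOfModules.naturality_apply φ.val a.op (ModLim.sec O (Y i) P x)
  have h2 : Q.val.map (a ≫ f i).op s' = Q.val.map a.op (Q.val.map (f i).op s') := by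
    rw [op_comp, PresheafOfModules.map_comp_apply]
  exact hn.trans ((congrArg (fun z => Q.val.map a.op z) h1).symm.trans h2.symm)

variable [HasDerivedCategory.{w} (ModSite.Mod O)]

lemma isZero_H0_of_hom_zero (B : Set C) (hB : TowerSite.Covers J B)
    (N : DerivedCategory (ModSite.Mod O))
    (h : ∀ U ∈ B, ∀ ξ : (sg O).obj (ModSite.freeOn O U) ⟶ N, ξ = 0) :
    IsZero ((H0 O).obj N) := by
  rw [IsZero.iff_id_eq_zero]
  apply (ModLim.tAb O).map_injective
  apply Sheaf.hom_ext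
  ext ⟨U⟩ s
  change s = 0
  let s' : ((H0 O).obj N).val.obj (op U) := s
  change s' = 0
  obtain ⟨S, hS, hloc⟩ := phi_locSurj O N U s'
  refine ModLim.eq_zero_of_locally_zero O ((H0 O).obj N) s' S hS ?_
  intro V f hf
  obtain ⟨ξ, hξ⟩ := hloc f hf
  rw [← hξ]
  obtain ⟨ι, Y, g, hcov, hY⟩ := hB V
  refine ModLim.eq_zero_of_locally_zero O ((H0 O).obj N) _ _ hcov ?_
  intro W k hk
  obtain ⟨i, a, rfl⟩ := (Sieve.mem_ofArrows_iff Y g k).1 hk
  have h0 : (sg O).map (ModLim.frMap O (g i)) ≫ ξ = 0 := h (Y i) (hY i) _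
  have h1 : ((H0 O).obj N).val.map (g i).op (phiFun O N V ξ) = 0 := by
    rw [← phiFun_map, h0]
    exact phiFun_zero O N (Y i)
  have h2 : ((H0 O).obj N).val.map a.op (0 : ((H0 O).obj N).val.obj (op (Y i))) = 0 := map_zero _
  rw [op_comp, PresheafOfModules.map_comp_apply]
  exact (congrArg (fun z => ((H0 O).obj N).val.map a.op z) h1).trans h2

lemma isZero_of_hom_zero (B : Set C) (hB : TowerSite.Covers J B)
    (N : DerivedCategory (ModSite.Mod O))
    (h : ∀ U ∈ B, ∀ (q : ℤ) (ξ : (sg O).obj (ModSite.freeOn O U) ⟶ N⟦q⟧), ξ = 0) : IsZero N := by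
  have hH : ∀ n : ℤ,
      IsZero ((DerivedCategory.homologyFunctor (ModSite.Mod O) n).obj N) := by
    intro n
    have h1 := isZero_H0_of_hom_zero O B hB (N⟦n⟧) (fun U hU ξ => h U hU n ξ)
    exact IsZero.of_iso h1
      (((DerivedCategory.homologyFunctor (ModSite.Mod O) 0).shiftIso n 0 n
        (by simp)).app N).symm
  let f : N ⟶ N := 0
  have hf : IsIso f := by
    rw [DerivedCategory.isIso_iff]
    intro n
    exact ⟨⟨0, (hH n).eq_of_src _ _, (hH n).eq_of_src _ _⟩⟩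
  rw [IsZero.iff_id_eq_zero]
  have := IsIso.hom_inv_id f
  rw [← this]
  exact zero_comp

lemma isIso_of_bijective (B : Set C) (hB : TowerSite.Covers J B)
    {M N : DerivedCategory (ModSite.Mod O)} (φ : M ⟶ N)
    (h : ∀ U ∈ B, ∀ q : ℤ, Function.Bijective
      (fun ξ : (sg O).obj (ModSite.freeOn O U) ⟶ M⟦q⟧ => ξ ≫ φ⟦q⟧')) : IsIso φ := by
  obtain ⟨Cn, g, h3, hT⟩ := distinguished_cocone_triangle φ
  refine ((Triangle.mk φ g h3).isZero₃_iff_isIso₁ hT).1 ?_
  apply isZero_of_hom_zero O B hB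
  intro U hU q ξ
  change (sg O).obj (ModSite.freeOn O U) ⟶ Cn⟦q⟧ at ξ
  -- first: `ξ ≫ h3⟦q⟧' = 0`
  have hη : ξ ≫ h3⟦q⟧' = 0 := by
    have h31 : h3 ≫ φ⟦(1 : ℤ)⟧' = 0 := comp_distTriang_mor_zero₃₁ _ hT
    have h0 : (ξ ≫ h3⟦q⟧') ≫ (φ⟦(1 : ℤ)⟧')⟦q⟧' = 0 := by
      rw [Category.assoc, ← Functor.map_comp, h31, Functor.map_zero, comp_zero]
    let a := shiftFunctorAdd' (DerivedCategory (ModSite.Mod O)) 1 q (q + 1)
      (by omega)
    have hnat : φ⟦q + 1⟧' ≫ a.hom.app N = a.hom.app M ≫ (φ⟦(1 : ℤ)⟧')⟦q⟧' := a.hom.naturality φ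
    have h1 : ((ξ ≫ h3⟦q⟧') ≫ a.inv.app M) ≫ φ⟦q + 1⟧' = 0 := by
      have : a.inv.app M ≫ φ⟦q + 1⟧' = (φ⟦(1 : ℤ)⟧')⟦q⟧' ≫ a.inv.app N :=
        (a.inv.naturality φ).symm
      rw [Category.assoc, this, ← Category.assoc, h0, zero_comp]
    have h2 : (ξ ≫ h3⟦q⟧') ≫ a.inv.app M = 0 := by
      apply (h U hU (q + 1)).1
      simp only
      rw [h1, zero_comp]
    have := congrArg (fun z => z ≫ a.hom.app M) h2
    simpa using this
  -- exactness of the rotated triangle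
  have hrot := rot_of_distTriang _ hT
  obtain ⟨y, hy⟩ := Milnor.coyoneda_exact₂_shift _ hrot q ξ hη
  change (sg O).obj (ModSite.freeOn O U) ⟶ N⟦q⟧ at y
  obtain ⟨x, hx⟩ := (h U hU q).2 y
  simp only at hx
  have h12 : φ ≫ g = 0 := comp_distTriang_mor_zero₁₂ _ hT
  have hy' : ξ = y ≫ g⟦q⟧' := hy
  have h4 : (x ≫ φ⟦q⟧') ≫ g⟦q⟧' = 0 := by
    rw [Category.assoc, ← Functor.map_comp, h12, Functor.map_zero, comp_zero]
  rw [hy', ← hx]
  exact h4

end Groth.Agent.Lib.Helper6.QcRlim
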