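import Groth.Agent.Lib.Helper6.QcRlim.DetIso

/-!
# The product of good modules is also their product in the derived category of `O`-modules
-/

set_option autoImplicit false
universe w w' u

open CategoryTheory Limits Opposite Abelian Pretriangulated

namespace Groth.Agent.Lib.Helper6.QcRlim

open Groth.Agent.Helper3 Groth.Agent.Helper3.ExtProd Groth.Agent.Helper3.ModLimW

variable {C : Type u} [SmallCategory C] {J : GrothendieckTopology C}
  (O : Sheaf J CommRingCat.{u}) [HasDerivedCategory.{w} (ModSite.Mod O)]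

section NoExt

lemma neg_hom_zero (W G' : ModSite.Mod O) (q : ℤ) (hq : q < 0)
    (ξ : (sg O).obj W ⟶ ((sg O).obj G')⟦q⟧) : ξ = 0 := by
  have : DerivedCategory.TStructure.t.IsGE (((sg O).obj G')⟦q⟧) (-q) :=
    DerivedCategory.TStructure.t.isGE_shift ((sg O).obj G') 0 q (-q) (by omega)
  exact DerivedCategory.TStructure.t.zero ξ 0 (-q) (by omega)

variable (G : ℕ → ModSite.Mod O) [HasProduct fun n => (sg O).obj (G n)]

/-- the comparison morphism from the single complex of the product to the derived product -/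
noncomputable def e : (sg O).obj (∏ᶜ G) ⟶ ∏ᶜ fun n => (sg O).obj (G n) :=
  Pi.lift fun n => (sg O).map (Pi.π G n)

@[reassoc (attr := simp)]
lemma e_π (n : ℕ) : e O G ≫ Pi.π (fun n => (sg O).obj (G n)) n = (sg O).map (Pi.π G n) := by
  simp [e]

end NoExt

variable [HasExt.{w'} (ModSite.Mod O)]

/-- comparison of `Ext` with shifted homs, compatible with post-composition by a morphism -/
lemma homEquiv_comp_mk₀ {W G₁ G₂ : ModSite.Mod O} (f : G₁ ⟶ G₂) (k : ℕ)
    (x : Ext W G₁ k) :
    (x.comp (Ext.mk₀ f) (add_zero k)).hom = x.hom ≫ ((sg O).map f)⟦(k : ℤ)⟧' := by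
  rw [Ext.comp_hom, Ext.mk₀_hom, ShiftedHom.comp_mk₀]

variable [EnoughInjectives (ModSite.Mod O)]
variable {G : ℕ → ModSite.Mod O}

lemma bijective_components {ι : Type*} {Z : ι → ModSite.Mod O} (hZ : DetectsEpi Z)
    (hG : Good Z G) (W : ModSite.Mod O) (q : ℤ) :
    Function.Bijective (fun (ξ : (sg O).obj W ⟶ ((sg O).obj (∏ᶜ G))⟦q⟧) (n : ℕ) =>
      ξ ≫ ((sg O).map (Pi.π G n))⟦q⟧') := by
  by_cases hq : q < 0
  · constructor
    · intro a b _
      rw [neg_hom_zero O W _ q hq a, neg_hom_zero O W _ q hq b]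
    · intro y
      refine ⟨0, ?_⟩
      funext n
      rw [neg_hom_zero O W _ q hq (y n)]
      exact zero_comp
  · obtain ⟨k, rfl⟩ : ∃ k : ℕ, q = (k : ℤ) := ⟨q.toNat, by omega⟩
    have hc := cmp_bijective hZ W k G hG
    constructor
    · intro a b hab
      obtain ⟨a', rfl⟩ := Ext.homEquiv.surjective a
      obtain ⟨b', rfl⟩ := Ext.homEquiv.surjective b
      congr 1
      apply hc.1
      funext n
      apply Ext.homEquiv.injective
      have := congrFun hab n
      simp only at this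
      change (a'.comp (Ext.mk₀ (Pi.π G n)) (add_zero k)).hom =
        (b'.comp (Ext.mk₀ (Pi.π G n)) (add_zero k)).hom
      rw [homEquiv_comp_mk₀ O, homEquiv_comp_mk₀ O]
      exact this
    · intro y
      obtain ⟨x, hx⟩ := hc.2 (fun n => Ext.homEquiv.symm (y n))
      refine ⟨x.hom, ?_⟩
      funext n
      have := congrArg (fun z => Ext.homEquiv z) (congrFun hx n)
      simp only [Equiv.apply_symm_apply, cmp_apply] at this
      rw [← this]
      exact (homEquiv_comp_mk₀ O (Pi.π G n) k x).symm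

variable [HasProduct fun n => (sg O).obj (G n)]

lemma bijective_e {ι : Type*} {Z : ι → ModSite.Mod O} (hZ : DetectsEpi Z)
    (hG : Good Z G) (W : ModSite.Mod O) (q : ℤ) :
    Function.Bijective (fun (ξ : (sg O).obj W ⟶ ((sg O).obj (∏ᶜ G))⟦q⟧) =>
      ξ ≫ (e O G)⟦q⟧') := by
  have hb := bijective_components O hZ hG W q
  have hl := Milnor.isLimitShift (fun n => (sg O).obj (G n)) q
  have key : ∀ (ξ : (sg O).obj W ⟶ ((sg O).obj (∏ᶜ G))⟦q⟧) (n : ℕ),
      (ξ ≫ (e O G)⟦q⟧') ≫ (Pi.π (fun n => (sg O).obj (G n)) n)⟦q⟧' =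
        ξ ≫ ((sg O).map (Pi.π G n))⟦q⟧' := by
    intro ξ n
    rw [Category.assoc, ← Functor.map_comp, e_π]
  constructor
  · intro a b hab
    apply hb.1
    funext n
    simp only at hab ⊢
    rw [← key, ← key, hab]
  · intro y
    obtain ⟨x, hx⟩ := hb.2 (fun n => y ≫ (Pi.π (fun n => (sg O).obj (G n)) n)⟦q⟧')
    refine ⟨x, ?_⟩
    refine Fan.IsLimit.hom_ext hl _ _ (fun n => ?_)
    exact (key x n).trans (congrFun hx n)

theorem isIso_e (B : Set C) (hB : TowerSite.Covers J B) (hG : Good (Zm O B) G) :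
    IsIso (e O G) :=
  isIso_of_bijective O B hB (e O G)
    (fun U _ q => bijective_e O (detectsEpi O B hB) hG (ModSite.freeOn O U) q)

end Groth.Agent.Lib.Helper6.QcRlim
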