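import Groth.Agent.Lib.Helper6.QcRlim.Tower
import Groth.Agent.Lib.Helper3.TowerQc3
import Groth.Agent.Lib.Helper3.ModLim4
import Groth.Agent.Lib.Helper3.TowerSite6

/-!
# The limit of a tower of quasi-coherent modules on a scheme, with transition maps which are
epimorphisms from the first step on, is a derived limit, and has no higher cohomology on affines
-/

set_option autoImplicit false
universe w u

open CategoryTheory Limits Opposite Abelian AlgebraicGeometry TopologicalSpace

namespace Groth.Agent.Lib.Helper6.QcRlim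

open Groth.Agent.Helper3 Groth.Agent.Helper3.ExtProd Groth.Agent.Helper3.ModLimW
  Groth.Agent.Helper1

variable {X : Scheme.{u}}

/-- sections over an affine open lift along an epimorphism with quasi-coherent kernel -/
lemma lift_qc [HasExt.{u} (ModSite.Mod X.sheaf)] {S : ShortComplex (ModSite.Mod X.sheaf)}
    (hS : S.ShortExact) (hq : SheafOfModules.IsQuasicoherent (R := X.ringCatSheaf) S.X₁)
    (V : X.Opens)
    (hV : IsAffineOpen V) (y : ModSite.freeOn X.sheaf V ⟶ S.X₃) :
    ∃ x : ModSite.freeOn X.sheaf V ⟶ S.X₂, x ≫ S.g = y := by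
  haveI : Subsingleton (Ext (ModSite.freeOn X.sheaf V) S.X₁ 1) :=
    ModLim.subsingleton_ext_of_HU X.sheaf V S.X₁ 1
      (@QcAcyc.subsingleton_HU X S.X₁ hq V hV 0)
  obtain ⟨x₂, hx₂⟩ := Ext.covariant_sequence_exact₃ (ModSite.freeOn X.sheaf V) hS (Ext.mk₀ y)
    (zero_add 1) (Subsingleton.elim _ _)
  obtain ⟨x, rfl⟩ := (Ext.mk₀_bijective _ _).2 x₂
  refine ⟨x, ?_⟩
  rw [Ext.mk₀_comp_mk₀] at hx₂
  exact (Ext.mk₀_bijective _ _).1 hx₂

/-- the kernel of a morphism of quasi-coherent modules is quasi-coherent (in `ModSite.Mod`) -/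
lemma isQuasicoherent_kernel_mod {M N : ModSite.Mod X.sheaf} (f : M ⟶ N)
    (hM : SheafOfModules.IsQuasicoherent (R := X.ringCatSheaf) M)
    (hN : SheafOfModules.IsQuasicoherent (R := X.ringCatSheaf) N) :
    SheafOfModules.IsQuasicoherent (R := X.ringCatSheaf) (kernel f) :=
  @QcAbel.isQuasicoherent_kernel X M N f hM hN

theorem main_mod [HasDerivedCategory.{w} (ModSite.Mod X.sheaf)] (F : ℕ → ModSite.Mod X.sheaf)
    (hF : ∀ n, SheafOfModules.IsQuasicoherent (R := X.ringCatSheaf) (F n))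
    (t : ∀ n, F (n + 1) ⟶ F n)
    (ht : ∀ n, 1 ≤ n → Epi (t n))
    [HasProduct fun n => (sg X.sheaf).obj (F n)] :
    DCoh.IsRlim (fun n => (sg X.sheaf).obj (F n)) (fun n => (sg X.sheaf).map (t n))
        ((sg X.sheaf).obj (limit (Functor.ofOpSequence t))) ∧
      ∀ (U : X.Opens), IsAffineOpen U → ∀ p : ℕ, 0 < p →
        Subsingleton (CohTop.HU ((ModLim.tAb X.sheaf).obj (limit (Functor.ofOpSequence t))) p U) := by
  haveI hI : EnoughInjectives (ModSite.Mod X.sheaf) :=
    Groth.Agent.S0485.result (Opens.grothendieckTopology X.toTopCat) (ModSite.ringSh X.sheaf)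
  haveI hE : HasExt.{u} (ModSite.Mod X.sheaf) := hasExt_of_enoughInjectives.{u} _
  have hcov : TowerSite.Covers (Opens.grothendieckTopology X.toTopCat) (TowerQc.Baff X) :=
    TowerSite.covers_of_isBasis (TowerQc.Baff X) X.isBasis_affineOpens
  have hG : Good (Zm X.sheaf (TowerQc.Baff X)) F := by
    intro V n k x
    haveI : Subsingleton (Ext (ModSite.freeOn X.sheaf V.1) (F n) (k + 1)) :=
      ModLim.subsingleton_ext_of_HU X.sheaf V.1 (F n) (k + 1)
        (@QcAcyc.subsingleton_HU X (F n) (hF n) V.1 V.2 k)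
    exact Subsingleton.elim _ _
  have hl : ∀ (V : TowerQc.Baff X) n, 1 ≤ n → ∀ y : ModSite.freeOn X.sheaf V.1 ⟶ F n,
      ∃ x : ModSite.freeOn X.sheaf V.1 ⟶ F (n + 1), x ≫ t n = y := by
    intro V n hn y
    let f := t n
    let S : ShortComplex (ModSite.Mod X.sheaf) :=
      ShortComplex.mk (kernel.ι f) f (kernel.condition f)
    have hS : S.ShortExact :=
      { exact := ShortComplex.exact_of_f_is_kernel _ (kernelIsKernel f)
        mono_f := inferInstanceAs (Mono (kernel.ι f))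
        epi_g := ht n hn }
    exact lift_qc hS (isQuasicoherent_kernel_mod f (hF (n + 1)) (hF n)) V.1 V.2 y
  have hZ := detectsEpi X.sheaf (TowerQc.Baff X) hcov
  have hΦ : Epi (TowerExt.Φ F t) := Φ_epi_of_lift F t hZ (fun V => hl V)
  refine ⟨?_, ?_⟩
  · exact isRlim_limit X.sheaf t (TowerQc.Baff X) hcov hG hΦ
  · intro U hU p hp
    obtain ⟨k, rfl⟩ : ∃ k, p = k + 1 := ⟨p - 1, by omega⟩
    have key : ∀ η : Ext (ModSite.freeOn X.sheaf U) (Kl X.sheaf t) (k + 1), η = 0 :=
      ext_limit_eq_zero X.sheaf t (TowerQc.Baff X) hcov hG hl U hU k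
    haveI : Subsingleton (Ext (ModSite.freeOn X.sheaf U) (Kl X.sheaf t) (k + 1)) :=
      ⟨fun a b => (key a).trans (key b).symm⟩
    obtain ⟨e'⟩ := ModLim.nonempty_ext_addEquiv X.sheaf U (Kl X.sheaf t) (k + 1)
    exact (e'.symm.toEquiv.subsingleton : Subsingleton (Ext ((Groth.Agent.Helper6.DRef.Fr _).obj U)
        ((ModLim.tAb X.sheaf).obj (Kl X.sheaf t)) (k + 1)))

theorem main [HasDerivedCategory.{w} X.Modules] (F : ℕ → X.Modules)
    (hF : ∀ n, (F n).IsQuasicoherent) (t : ∀ n, F (n + 1) ⟶ F n) (ht : ∀ n, 1 ≤ n → Epi (t n))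
    [HasProduct fun n => (DerivedCategory.singleFunctor X.Modules 0).obj (F n)] :
    DCoh.IsRlim (fun n => (DerivedCategory.singleFunctor X.Modules 0).obj (F n))
        (fun n => (DerivedCategory.singleFunctor X.Modules 0).map (t n))
        ((DerivedCategory.singleFunctor X.Modules 0).obj (limit (Functor.ofOpSequence t))) ∧
      ∀ (U : X.Opens), IsAffineOpen U → ∀ p : ℕ, 0 < p →
        Subsingleton (Coh.HHon X (limit (Functor.ofOpSequence t)) U p) := by
  letI hD : HasDerivedCategory.{w} (ModSite.Mod X.sheaf) := ‹HasDerivedCategory.{w} X.Modules›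
  let F' : ℕ → ModSite.Mod X.sheaf := F
  let t' : ∀ n, F' (n + 1) ⟶ F' n := t
  haveI hP : HasProduct fun n => (sg X.sheaf).obj (F' n) :=
    ‹HasProduct fun n => (DerivedCategory.singleFunctor X.Modules 0).obj (F n)›
  have hm := main_mod F' hF t' ht
  refine ⟨hm.1, ?_⟩
  intro U hU p hp
  obtain ⟨e⟩ := Groth.Agent.Lib.Helper4.HUon1.nonempty_HU_equiv_HHon
    (limit (Functor.ofOpSequence t)) U p
  haveI h2 : Subsingleton (CohTop.HU (Coh.toAb (limit (Functor.ofOpSequence t))) p U) :=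
    hm.2 U hU p hp
  exact e.symm.toEquiv.subsingleton

end Groth.Agent.Lib.Helper6.QcRlim
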