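import Groth.Agent.Lib.Helper6.QcRlim.ProdIso
import Groth.Agent.Lib.Helper3.TowerSite5

/-!
# The limit of a tower of good modules, with transition maps which allow lifting of sections over
the test objects from the first step on, is a derived limit
-/

set_option autoImplicit false
universe w w' v u' u

open CategoryTheory Limits Opposite Abelian Pretriangulated

namespace Groth.Agent.Lib.Helper6.QcRlim

open Groth.Agent.Helper3 Groth.Agent.Helper3.ExtProd Groth.Agent.Helper3.ModLimW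

section Groups

/-- the difference equation can be solved in a tower of abelian groups whose transition maps are
surjective from the first step on -/
lemma exists_diff_of_surj {E : ℕ → Type*} [∀ n, AddCommGroup (E n)] (s : ∀ n, E (n + 1) →+ E n)
    (hs : ∀ n, 1 ≤ n → Function.Surjective (s n)) (y : ∀ n, E n) :
    ∃ x : ∀ n, E n, ∀ n, x n - s n (x (n + 1)) = y n := by
  let x' : ∀ n, E (n + 1) := fun n => Nat.rec (motive := fun n => E (n + 1)) 0
    (fun n xn => (hs (n + 1) (Nat.le_add_left 1 n) (xn - y (n + 1))).choose) n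
  have hx' : ∀ n, s (n + 1) (x' (n + 1)) = x' n - y (n + 1) :=
    fun n => (hs (n + 1) (Nat.le_add_left 1 n) (x' n - y (n + 1))).choose_spec
  let x : ∀ n, E n := fun n => match n with
    | 0 => y 0 + s 0 (x' 0)
    | m + 1 => x' m
  refine ⟨x, ?_⟩
  intro n
  cases n with
  | zero =>
    change (y 0 + s 0 (x' 0)) - s 0 (x' 0) = y 0
    abel
  | succ m =>
    change x' m - s (m + 1) (x' (m + 1)) = y (m + 1)
    rw [hx']
    abel

end Groups

section Abstract

variable {𝒜 : Type u'} [Category.{v} 𝒜] [Abelian 𝒜] [HasExt.{w} 𝒜] [HasProductsOfShape ℕ 𝒜]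
variable {ι : Type*} {Z : ι → 𝒜} (G : ℕ → 𝒜) (t : ∀ n, G (n + 1) ⟶ G n)

omit [HasExt 𝒜] [HasProductsOfShape ℕ 𝒜] in
lemma exists_diff_of_lift (W : 𝒜)
    (hl : ∀ n, 1 ≤ n → ∀ y : W ⟶ G n, ∃ x : W ⟶ G (n + 1), x ≫ t n = y) (y : ∀ n, W ⟶ G n) :
    ∃ x : ∀ n, W ⟶ G n, ∀ n, x n - x (n + 1) ≫ t n = y n :=
  exists_diff_of_surj (E := fun n => W ⟶ G n) (fun n => Preadditive.rightComp W (t n))
    (fun n hn y => hl n hn y) y

lemma Φ_epi_of_lift (hZ : DetectsEpi Z)
    (hl : ∀ i n, 1 ≤ n → ∀ y : Z i ⟶ G n, ∃ x : Z i ⟶ G (n + 1), x ≫ t n = y) :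
    Epi (TowerExt.Φ G t) :=
  TowerSite.Φ_epi_of_limOne G t hZ (fun i y => exists_diff_of_lift G t (Z i) (hl i) y)

lemma towerDiff_surjective_of_lift (W : 𝒜)
    (hl : ∀ n, 1 ≤ n → ∀ y : W ⟶ G n, ∃ x : W ⟶ G (n + 1), x ≫ t n = y) :
    Function.Surjective (Formal2.towerDiff (fun n => Ext W (G n) 0) (TowerExt.τ G t W 0)) := by
  intro y
  choose f hf using fun n => (Ext.mk₀_bijective _ _).2 (y n)
  obtain ⟨x, hx⟩ := exists_diff_of_lift G t W hl f
  refine ⟨fun n => Ext.mk₀ (x n), ?_⟩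
  funext n
  simp only [Formal2.towerDiff, AddMonoidHom.coe_mk, ZeroHom.coe_mk, TowerExt.τ,
    AddMonoidHom.flip_apply, Ext.bilinearComp_apply_apply]
  rw [Ext.mk₀_comp_mk₀, ← TowerExt.mk₀_sub, hx, hf]

end Abstract

variable {C : Type u} [SmallCategory C] {J : GrothendieckTopology C}
  (O : Sheaf J CommRingCat.{u})
variable {F : ℕ → ModSite.Mod O} (t : ∀ n, F (n + 1) ⟶ F n)

/-- the limit of the tower -/
noncomputable abbrev Kl : ModSite.Mod O := limit (Functor.ofOpSequence t)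

/-- projections -/
noncomputable def pl (n : ℕ) : Kl O t ⟶ F n := limit.π (Functor.ofOpSequence t) (op n)

lemma hpl (n : ℕ) : pl O t (n + 1) ≫ t n = pl O t n := by
  have := limit.w (Functor.ofOpSequence t) (homOfLE (Nat.le_add_right n 1)).op
  rw [Functor.ofOpSequence_map_homOfLE_succ] at this
  exact this

lemma hKl (A : ModSite.Mod O) (k : ∀ n, A ⟶ F n)
    (hk : ∀ n, k (n + 1) ≫ t n = k n) : ∃ l : A ⟶ Kl O t, ∀ n, l ≫ pl O t n = k n := by
  let c : Cone (Functor.ofOpSequence t) :=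
    ⟨A, NatTrans.ofOpSequence (F := (Functor.const ℕᵒᵖ).obj A) (G := Functor.ofOpSequence t) k (by
      intro n
      simp only [Functor.const_obj_obj, Functor.const_obj_map, Category.id_comp]
      rw [Functor.ofOpSequence_map_homOfLE_succ]
      exact (hk n).symm)⟩
  exact ⟨limit.lift _ c, fun n => limit.lift_π c (op n)⟩

lemma hmonol (A : ModSite.Mod O) (l l' : A ⟶ Kl O t)
    (h : ∀ n, l ≫ pl O t n = l' ≫ pl O t n) : l = l' := by
  apply limit.hom_ext
  rintro ⟨n⟩
  exact h n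

variable [HasExt.{w'} (ModSite.Mod O)] [EnoughInjectives (ModSite.Mod O)]

/-- vanishing of the higher `Ext` groups from `j_{U!} O_U`, `U ∈ B`, into the limit -/
theorem ext_limit_eq_zero (B : Set C) (hB : TowerSite.Covers J B) (hG : Good (Zm O B) F)
    (hl : ∀ (V : B) n, 1 ≤ n → ∀ y : ModSite.freeOn O V.1 ⟶ F n,
      ∃ x : ModSite.freeOn O V.1 ⟶ F (n + 1), x ≫ t n = y)
    (U : C) (hU : U ∈ B) (k : ℕ) (η : Ext (ModSite.freeOn O U) (Kl O t) (k + 1)) : η = 0 :=
  TowerExt.ext_eq_zero (pl O t) (hpl O t) (hKl O t) (hmonol O t) (detectsEpi O B hB) hG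
    (Φ_epi_of_lift F t (detectsEpi O B hB) (fun V => hl V)) (ModSite.freeOn O U)
    (fun n k x => hG ⟨U, hU⟩ n k x) (towerDiff_surjective_of_lift F t _ (hl ⟨U, hU⟩)) k η

variable [HasDerivedCategory.{w} (ModSite.Mod O)] [HasProduct fun n => (sg O).obj (F n)]

theorem isRlim_limit (B : Set C) (hB : TowerSite.Covers J B) (hG : Good (Zm O B) F)
    (hΦ : Epi (TowerExt.Φ F t)) :
    DCoh.IsRlim (fun n => (sg O).obj (F n)) (fun n => (sg O).map (t n))
      ((sg O).obj (Kl O t)) := by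
  have hT := TowerExt.hT (pl O t) (hpl O t) (hKl O t) (hmonol O t) hΦ
  have hiso : IsIso (e O F) := isIso_e O B hB hG
  have hdist := hT.singleTriangle_distinguished
  let Φ' : (∏ᶜ fun n => (sg O).obj (F n)) ⟶ ∏ᶜ fun n => (sg O).obj (F n) :=
    Pi.lift fun n => Pi.π (fun n => (sg O).obj (F n)) n -
      Pi.π (fun n => (sg O).obj (F n)) (n + 1) ≫ (sg O).map (t n)
  have comm : (sg O).map (TowerExt.Φ F t) ≫ e O F = e O F ≫ Φ' := by
    apply Pi.hom_ext
    intro n
    simp only [Category.assoc, e_π, Φ', Pi.lift_π, Preadditive.comp_sub, e_π_assoc]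
    rw [← Functor.map_comp, TowerExt.Φ_π, Functor.map_sub, Functor.map_comp]
  let eI : (sg O).obj (∏ᶜ F) ≅ ∏ᶜ fun n => (sg O).obj (F n) := asIso (e O F)
  refine ⟨(sg O).map (TowerExt.T (pl O t) (hpl O t)).f ≫ e O F, inv (e O F) ≫ hT.singleδ, ?_⟩
  have iso : hT.singleTriangle ≅
      Triangle.mk ((sg O).map (TowerExt.T (pl O t) (hpl O t)).f ≫ e O F) Φ'
      (inv (e O F) ≫ hT.singleδ) :=
    Triangle.isoMk _ _ (Iso.refl _) eI eI
      (by
        simp only [eI, asIso_hom, Iso.refl_hom]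
        exact (Category.id_comp _).symm)
      comm
      (by
        change hT.singleδ ≫ (shiftFunctor (DerivedCategory (ModSite.Mod O)) (1 : ℤ)).map
          (𝟙 ((sg O).obj (Kl O t))) = e O F ≫ inv (e O F) ≫ hT.singleδ
        rw [CategoryTheory.Functor.map_id, IsIso.hom_inv_id_assoc]
        exact Category.comp_id _)
  exact isomorphic_distinguished _ hdist _ iso.symm

end Groth.Agent.Lib.Helper6.QcRlim
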